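import Mathlib
import Groth.Prelude.Def_CAlgX
import Groth.Prelude.Def_Found
import Groth.Agent.Lib.Helper8.PRad13

/-! helper7: local algebra for the fibrewise characterisation of smoothness in terms of the ring
`O_{X,x} / 𝔪_y O_{X,x}` (S5028, S5013). -/

set_option linter.style.haveILetI false
set_option linter.unusedVariables false
set_option linter.unusedSectionVars false
set_option autoImplicit false
set_option backward.isDefEq.respectTransparency.types false
set_option synthInstance.maxHeartbeats 400000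
set_option maxHeartbeats 1600000

universe u

namespace Groth.Agent.Helper7.SmFib

open IsLocalRing TensorProduct CAlgX

/-- the closed fibre `S / 𝔪_R S` of a ring homomorphism from a local ring is geometrically
regular over the residue field of `R` -/
def FibGeomReg {R S : Type u} [CommRing R] [CommRing S] [IsLocalRing R] (φ : R →+* S) : Prop :=
  letI : Algebra (IsLocalRing.ResidueField R) (S ⧸ (IsLocalRing.maximalIdeal R).map φ) :=
    (Ideal.quotientMap ((IsLocalRing.maximalIdeal R).map φ) φ Ideal.le_comap_map).toAlgebra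
  CAlg.IsGeometricallyRegular (IsLocalRing.ResidueField R)
    (S ⧸ (IsLocalRing.maximalIdeal R).map φ)

/-- a formally smooth homomorphism of Noetherian local rings is flat with geometrically regular
closed fibre -/
theorem flat_and_fibGeomReg_of_formallySmooth {R S : Type u} [CommRing R] [CommRing S]
    [IsLocalRing R] [IsLocalRing S] [IsNoetherianRing R] [IsNoetherianRing S] (φ : R →+* S)
    (hφ : φ.FormallySmooth) : φ.Flat ∧ FibGeomReg φ := by
  letI := φ.toAlgebra
  haveI : Algebra.FormallySmooth R S := hφ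
  refine ⟨?_, ?_⟩
  · exact (Groth.Agent.Helper8.AdicFS.flat_of_formallySmooth R S : Module.Flat R S)
  · letI : Field (R ⧸ maximalIdeal R) := Ideal.Quotient.field _
    haveI : Algebra.FormallySmooth (R ⧸ maximalIdeal R) ((R ⧸ maximalIdeal R) ⊗[R] S) :=
      inferInstance
    haveI : Algebra.FormallySmooth (R ⧸ maximalIdeal R)
        (S ⧸ (maximalIdeal R).map (algebraMap R S)) :=
      Algebra.FormallySmooth.of_equiv
        (Algebra.TensorProduct.quotIdealMapEquivQuotTensor S (maximalIdeal R)).symm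
    have key := Groth.Agent.Helper8.AdicFS.isGeometricallyRegular_of_formallySmooth_field
      (R ⧸ maximalIdeal R) (S ⧸ (maximalIdeal R).map (algebraMap R S))
    have halg : (Ideal.Quotient.algebraQuotientMapQuotient :
        Algebra (R ⧸ maximalIdeal R) (S ⧸ (maximalIdeal R).map (algebraMap R S))) =
        (Ideal.quotientMap ((maximalIdeal R).map φ) φ Ideal.le_comap_map).toAlgebra :=
      Algebra.algebra_ext _ _ (fun r => rfl)
    rw [halg] at key
    unfold FibGeomReg
    exact key

/-- transport of formal smoothness for an adic topology along a ring isomorphism which is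
semilinear for a surjective homomorphism of the base rings -/
theorem isAdicFormallySmooth_transport {k₁ k₂ S₁ S₂ : Type u} [CommRing k₁] [CommRing k₂]
    [CommRing S₁] [CommRing S₂] [Algebra k₁ S₁] [Algebra k₂ S₂] (e : S₁ ≃+* S₂) (β : k₁ →+* k₂)
    (hβ : Function.Surjective β)
    (hcomp : ∀ a, e (algebraMap k₁ S₁ a) = algebraMap k₂ S₂ (β a))
    {𝔫₁ : Ideal S₁} {𝔫₂ : Ideal S₂} (h𝔫 : ∀ x ∈ 𝔫₁, e x ∈ 𝔫₂)
    (h : IsAdicFormallySmooth k₁ S₁ 𝔫₁) : IsAdicFormallySmooth k₂ S₂ 𝔫₂ := by
  intro C _ _ J hJ ψ hψ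
  obtain ⟨n, hn⟩ := hψ
  letI : Algebra k₁ C := ((algebraMap k₂ C).comp β).toAlgebra
  have hC : ∀ a, algebraMap k₁ C a = algebraMap k₂ C (β a) := fun _ => rfl
  let ψ₁ : S₁ →ₐ[k₁] C ⧸ J :=
    { ((ψ : S₂ →+* C ⧸ J).comp (e : S₁ →+* S₂)) with
      commutes' := fun a => by
        show ψ (e (algebraMap k₁ S₁ a)) = algebraMap k₁ (C ⧸ J) a
        rw [hcomp, ψ.commutes]
        rfl }
  have hpow : (𝔫₁ ^ n).map (e : S₁ →+* S₂) ≤ 𝔫₂ ^ n := by
    rw [Ideal.map_pow]
    exact Ideal.pow_right_mono (Ideal.map_le_iff_le_comap.2 h𝔫) n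
  obtain ⟨χ₁, hχ₁⟩ := h C J hJ ψ₁ ⟨n, fun x hx => by
    show ψ (e x) = 0
    exact hn _ (hpow (Ideal.mem_map_of_mem (e : S₁ →+* S₂) hx))⟩
  let χ : S₂ →ₐ[k₂] C :=
    { ((χ₁ : S₁ →+* C).comp (e.symm : S₂ →+* S₁)) with
      commutes' := fun b => by
        obtain ⟨a, rfl⟩ := hβ b
        show χ₁ (e.symm (algebraMap k₂ S₂ (β a))) = algebraMap k₂ C (β a)
        rw [← hcomp, e.symm_apply_apply, χ₁.commutes]
        rfl }
  refine ⟨χ, ?_⟩
  ext s
  have h1 := AlgHom.congr_fun hχ₁ (e.symm s)
  have h2 : ψ₁ (e.symm s) = ψ s := by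
    show ψ (e (e.symm s)) = ψ s
    rw [e.apply_symm_apply]
  rw [h2] at h1
  exact h1

/-- a ring isomorphism of local rings maps the maximal ideal into the maximal ideal -/
theorem ringEquiv_mem_maximalIdeal {S₁ S₂ : Type u} [CommRing S₁] [CommRing S₂] [IsLocalRing S₁]
    [IsLocalRing S₂] (e : S₁ ≃+* S₂) (x : S₁) (hx : x ∈ maximalIdeal S₁) :
    e x ∈ maximalIdeal S₂ := by
  rw [IsLocalRing.mem_maximalIdeal, mem_nonunits_iff] at hx ⊢
  intro hu
  apply hx
  have := hu.map (e.symm : S₂ →+* S₁)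
  rwa [RingEquiv.coe_toRingHom, e.symm_apply_apply] at this

end Groth.Agent.Helper7.SmFib
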