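import Mathlib
import Groth.Prelude.Def_EGA43
import Groth.Prelude.Def_FDesc
import Groth.Agent.Lib.Helper7.SmFib.Alg
import Groth.Agent.Lib.Helper8.AdicFS19
import Groth.Agent.Lib.Helper4.ValFlat16
import Groth.Agent.Lib.Helper4.ValFlat11
import Groth.Agent.Lib.Helper4.ChevCrit8
import Groth.Agent.Lib.Helper7.ChevUO.EquiTFAE
import Groth.Agent.Lib.Lead.CritFib20
import Groth.Agent.S4989
import Groth.Agent.S2156

/-! helper7: smoothness at a point in terms of universal openness (or equidimensionality) and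
geometric regularity of the local ring of the fibre (S5028, S5013; EGA IV 17.5.x). -/

set_option backward.isDefEq.respectTransparency.types false
set_option synthInstance.maxHeartbeats 400000
set_option autoImplicit false
set_option linter.unusedSectionVars false
set_option linter.style.haveILetI false
set_option linter.unusedSimpArgs false
set_option linter.unusedVariables false
set_option maxHeartbeats 1600000
universe u v w
open CategoryTheory CategoryTheory.Limits AlgebraicGeometry TopologicalSpace IsLocalRing Opposite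
open Groth.Agent.Lib.Helper4.FibDim1 Groth.Agent.Lib.Helper4.FibDim4 Groth.Agent.Lib.Helper4.FibDim6
open Groth.Agent.Lib.Helper4.Aff2 Groth.Agent.Lib.Helper4.IrrCompDomain1
open CAlgX

namespace Groth.Agent.Helper7.SmFib

/-- the germ map from the global sections of the spectrum of a field to a stalk is bijective -/
theorem germ_top_bijective_of_isField (K : CommRingCat.{u}) (hK : IsField K) (p : Spec K) :
    Function.Bijective ((Spec K).presheaf.germ ⊤ p trivial).hom := by
  have hU : IsAffineOpen (⊤ : (Spec K).Opens) := isAffineOpen_top _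
  have hΓ : IsField Γ(Spec K, ⊤) :=
    MulEquiv.isField hK (Scheme.ΓSpecIso K).commRingCatIsoToRingEquiv.toMulEquiv
  let pt : ↥(⊤ : (Spec K).Opens) := ⟨p, trivial⟩
  letI alg : Algebra Γ(Spec K, ⊤) ((Spec K).presheaf.stalk p) :=
    (Spec K).presheaf.algebra_section_stalk pt
  haveI loc : IsLocalization.AtPrime ((Spec K).presheaf.stalk p)
      (hU.primeIdealOf pt).asIdeal := hU.isLocalization_stalk pt
  have hmap : ∀ b, ((Spec K).presheaf.germ ⊤ p trivial).hom b =
      algebraMap Γ(Spec K, ⊤) ((Spec K).presheaf.stalk p) b := fun _ => rfl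
  constructor
  · rw [injective_iff_map_eq_zero]
    intro b hb
    by_contra hb0
    obtain ⟨t, ht⟩ := hΓ.mul_inv_cancel hb0
    have h1 : ((Spec K).presheaf.germ ⊤ p trivial).hom (b * t) = 0 := by
      rw [map_mul, hb, zero_mul]
    rw [ht, map_one] at h1
    exact one_ne_zero h1
  · intro z
    obtain ⟨a, s, rfl⟩ := IsLocalization.exists_mk'_eq
      (hU.primeIdealOf pt).asIdeal.primeCompl z
    have hs0 : (s : Γ(Spec K, ⊤)) ≠ 0 := fun h0 =>
      s.2 (h0 ▸ (hU.primeIdealOf pt).asIdeal.zero_mem)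
    obtain ⟨t, ht⟩ := hΓ.mul_inv_cancel hs0
    refine ⟨a * t, ?_⟩
    rw [hmap, IsLocalization.eq_mk'_iff_mul_eq, ← map_mul, mul_assoc, mul_comm t, ht, mul_one]

/-- the stalk of the spectrum of a field is integrally closed -/
theorem isIntegrallyClosed_stalk_of_isField (K : CommRingCat.{u}) (hK : IsField K) (p : Spec K) :
    IsIntegrallyClosed ((Spec K).presheaf.stalk p) := by
  letI : Field K := hK.toField
  let e₁ : Γ(Spec K, ⊤) ≃+* (Spec K).presheaf.stalk p :=
    RingEquiv.ofBijective _ (germ_top_bijective_of_isField K hK p)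
  let e₂ : K ≃+* Γ(Spec K, ⊤) := (Scheme.ΓSpecIso K).commRingCatIsoToRingEquiv.symm
  exact IsIntegrallyClosed.of_equiv (e₂.trans e₁)

/-- a commutative square of schemes whose right vertical arrow is surjective on stalks gives a
factorisation of the composite stalk homomorphism through a surjection -/
theorem exists_stalk_factor {X F P Y : Scheme.{u}} (i : F ⟶ X) (f : X ⟶ Y) (g : F ⟶ P)
    (j : P ⟶ Y) (hfac : i ≫ f = g ≫ j) [SurjectiveOnStalks j] (x' : F) :
    ∃ ρ : Y.presheaf.stalk (f.base (i.base x')) →+* P.presheaf.stalk (g.base x'),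
      Function.Surjective ρ ∧ ∀ r, (i.stalkMap x').hom ((f.stalkMap (i.base x')).hom r) =
        (g.stalkMap x').hom (ρ r) := by
  have hpt : (i ≫ f).base x' = (g ≫ j).base x' := by rw [hfac]
  let c : Y.presheaf.stalk ((i ≫ f).base x') ⟶ Y.presheaf.stalk ((g ≫ j).base x') :=
    (Y.presheaf.stalkCongr (Inseparable.of_eq hpt)).hom
  have h1 : (i ≫ f).stalkMap x' = f.stalkMap (i.base x') ≫ i.stalkMap x' :=
    Scheme.Hom.stalkMap_comp i f x'
  have h2 : (g ≫ j).stalkMap x' = j.stalkMap (g.base x') ≫ g.stalkMap x' :=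
    Scheme.Hom.stalkMap_comp g j x'
  have h3 : (i ≫ f).stalkMap x' = c ≫ (g ≫ j).stalkMap x' :=
    Scheme.Hom.stalkMap_congr_hom _ _ hfac x'
  have h4 : f.stalkMap (i.base x') ≫ i.stalkMap x' =
      c ≫ j.stalkMap (g.base x') ≫ g.stalkMap x' :=
    h1.symm.trans (h3.trans (congrArg (fun m => c ≫ m) h2))
  refine ⟨(c ≫ j.stalkMap (g.base x')).hom, ?_, ?_⟩
  · rw [CommRingCat.hom_comp]
    exact (j.stalkMap_surjective (g.base x')).comp (ConcreteCategory.bijective_of_isIso c).2
  · intro r
    have h5 := congrArg (fun m => m.hom r) h4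
    simpa using h5

variable {X Y : Scheme.{u}}

theorem fibGeomReg_congr (f : X ⟶ Y) (a b : X) (h : a = b)
    (H : FibGeomReg (f.stalkMap a).hom) : FibGeomReg (f.stalkMap b).hom := by
  subst h
  exact H

/-- if the ring `O_{X,x} / 𝔪_y O_{X,x}` is geometrically regular over `κ(y)`, the fibre over `y`
is smooth at `x` -/
theorem mem_smoothLocus_fibre_of_fibGeomReg [IsLocallyNoetherian Y] (f : X ⟶ Y)
    [LocallyOfFiniteType f] (y : Y) (x' : f.fiber y)
    [LocallyOfFinitePresentation (f.fiberToSpecResidueField y)]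
    (h : FibGeomReg (f.stalkMap ((f.fiberι y).base x')).hom) :
    x' ∈ (f.fiberToSpecResidueField y).smoothLocus := by
  haveI : IsLocallyNoetherian X := LocallyOfFiniteType.isLocallyNoetherian f
  -- the rings involved
  let R := Y.presheaf.stalk (f.base ((f.fiberι y).base x'))
  let S := X.presheaf.stalk ((f.fiberι y).base x')
  let T := (f.fiber y).presheaf.stalk x'
  let φ : R →+* S := (f.stalkMap ((f.fiberι y).base x')).hom
  let σ : S →+* T := ((f.fiberι y).stalkMap x').hom
  let g := f.fiberToSpecResidueField y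
  have hσ : Function.Surjective σ := (f.fiberι y).stalkMap_surjective x'
  have hker : RingHom.ker σ = (maximalIdeal R).map φ := by
    apply le_antisymm (Groth.Agent.Lib.Helper4.FibreStalkDim1.ker_stalkMap_fiberι_le f y x')
    rw [Ideal.map_le_iff_le_comap]
    intro t ht
    rw [Ideal.mem_comap, RingHom.mem_ker]
    have e := Groth.Agent.Lib.Helper4.DvrFlat1.stalkMap_eq_zero_of_factors_field
      (Field.toIsField (Y.residueField y))
      (f.fiberι y ≫ f) (f.fiberToSpecResidueField y) (Y.fromSpecResidueField y)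
      (f.fiber_fac y) x' t ht
    rw [Scheme.Hom.stalkMap_comp] at e
    exact e
  let I : Ideal S := (maximalIdeal R).map φ
  have hI : I ≤ maximalIdeal S :=
    ((IsLocalRing.local_hom_TFAE φ).out 0 2 rfl rfl).mp
      (inferInstanceAs (IsLocalHom (f.stalkMap ((f.fiberι y).base x')).hom))
  have hI' : I ≠ ⊤ := fun e =>
    (IsLocalRing.maximalIdeal.isMaximal _).ne_top (top_le_iff.mp (e ▸ hI))
  haveI : Nontrivial (S ⧸ I) := Ideal.Quotient.nontrivial_iff.mpr hI'
  haveI : IsLocalRing (S ⧸ I) :=
    IsLocalRing.of_surjective' (Ideal.Quotient.mk I) Ideal.Quotient.mk_surjective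
  haveI : IsNoetherianRing S := inferInstanceAs (IsNoetherianRing (X.presheaf.stalk _))
  haveI : IsNoetherianRing (S ⧸ I) := inferInstance
  letI algκ : Algebra (ResidueField R) (S ⧸ I) :=
    (Ideal.quotientMap I φ Ideal.le_comap_map).toAlgebra
  have h₁ : IsAdicFormallySmooth (ResidueField R) (S ⧸ I) (maximalIdeal (S ⧸ I)) :=
    Groth.Agent.Helper8.PRad.isGeometricallyRegular_iff_isAdicFormallySmooth.1
      (show CAlg.IsGeometricallyRegular (ResidueField R) (S ⧸ I) from h)
  let σbar : (S ⧸ I) ≃+* T :=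
    (Ideal.quotEquivOfEq hker.symm).trans (RingHom.quotientKerEquivOfSurjective hσ)
  have hσbar : ∀ s : S, σbar (Ideal.Quotient.mk I s) = σ s := fun s => rfl
  -- an affine chart of the fibre
  obtain ⟨_, ⟨V, hV, rfl⟩, hx'V, -⟩ :=
    (f.fiber y).isBasis_affineOpens.exists_subset_of_mem_open (Set.mem_univ x') isOpen_univ
  have hV' : IsAffineOpen V := hV
  have hU : IsAffineOpen (⊤ : (Spec (Y.residueField y)).Opens) := isAffineOpen_top _
  have hVU : V ≤ g ⁻¹ᵁ ⊤ := le_top
  letI algK : Algebra Γ(Spec (Y.residueField y), ⊤) Γ(f.fiber y, V) :=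
    (g.appLE ⊤ V hVU).hom.toAlgebra
  haveI : LocallyOfFiniteType g := MorphismProperty.pullback_snd _ _ inferInstance
  haveI : Algebra.FiniteType Γ(Spec (Y.residueField y), ⊤) Γ(f.fiber y, V) :=
    RingHom.finiteType_algebraMap.mp (g.finiteType_appLE hU hV' hVU)
  haveI : IsNoetherianRing Γ(Spec (Y.residueField y), ⊤) :=
    IsLocallyNoetherian.component_noetherian ⟨⊤, hU⟩
  let q := (hV'.primeIdealOf ⟨x', hx'V⟩).asIdeal
  letI algVT : Algebra Γ(f.fiber y, V) T :=
    (f.fiber y).presheaf.algebra_section_stalk ⟨x', hx'V⟩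
  haveI locT : IsLocalization.AtPrime T q := hV'.isLocalization_stalk ⟨x', hx'V⟩
  let ιK : Γ(Spec (Y.residueField y), ⊤) →+* T :=
    (algebraMap Γ(f.fiber y, V) T).comp (algebraMap Γ(Spec (Y.residueField y), ⊤) Γ(f.fiber y, V))
  letI algKT : Algebra Γ(Spec (Y.residueField y), ⊤) T := ιK.toAlgebra
  haveI : IsScalarTower Γ(Spec (Y.residueField y), ⊤) Γ(f.fiber y, V) T :=
    .of_algebraMap_eq fun _ => rfl
  -- the two coefficient fields have the same image in `T`
  have hKfield : IsField (Y.residueField y) := Field.toIsField (Y.residueField y)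
  have hΓ : IsField Γ(Spec (Y.residueField y), ⊤) :=
    MulEquiv.isField hKfield
      (Scheme.ΓSpecIso (Y.residueField y)).commRingCatIsoToRingEquiv.toMulEquiv
  have hιKinj : Function.Injective ιK := by
    rw [injective_iff_map_eq_zero]
    intro b hb
    by_contra hb0
    obtain ⟨t, ht⟩ := hΓ.mul_inv_cancel hb0
    have h1 : ιK (b * t) = 0 := by rw [map_mul, hb, zero_mul]
    rw [ht, map_one] at h1
    exact one_ne_zero h1
  have hgerm := germ_top_bijective_of_isField (Y.residueField y) hKfield (g.base x')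
  have hιK : ∀ b, ιK b = (g.stalkMap x').hom
      (((Spec (Y.residueField y)).presheaf.germ ⊤ (g.base x') trivial).hom b) := by
    intro b
    have h1 := Scheme.Hom.germ_stalkMap_apply g ⊤ x' trivial b
    have h2 : ((f.fiber y).presheaf.germ V x' hx'V).hom ((g.appLE ⊤ V hVU).hom b) =
        ((f.fiber y).presheaf.germ (g ⁻¹ᵁ ⊤) x' trivial).hom ((g.app ⊤).hom b) := by
      rw [Scheme.Hom.appLE]
      exact TopCat.Presheaf.germ_res_apply (f.fiber y).presheaf (homOfLE hVU) x' hx'V
        ((g.app ⊤).hom b)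
    exact h2.trans h1.symm
  obtain ⟨ρ, hρsurj, hρ⟩ := exists_stalk_factor (f.fiberι y) f g (Y.fromSpecResidueField y)
    (f.fiber_fac y) x'
  have hrange1 : ∀ r : R, ∃ b, ιK b = σ (φ r) := by
    intro r
    obtain ⟨b, hb⟩ := hgerm.2 (ρ r)
    refine ⟨b, ?_⟩
    rw [hιK, hb]
    exact (hρ r).symm
  have hrange2 : ∀ b, ∃ r : R, σ (φ r) = ιK b := by
    intro b
    obtain ⟨r, hr⟩ := hρsurj (((Spec (Y.residueField y)).presheaf.germ ⊤ (g.base x') trivial).hom b)
    refine ⟨r, ?_⟩
    rw [hιK, ← hr]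
    exact hρ r
  -- the comparison of the coefficient fields
  let eK : Γ(Spec (Y.residueField y), ⊤) ≃+* ιK.range :=
    RingEquiv.ofBijective ιK.rangeRestrict
      ⟨fun a b hab => hιKinj (congrArg Subtype.val hab), ιK.rangeRestrict_surjective⟩
  let γ : ResidueField R →+* T :=
    (σbar : (S ⧸ I) →+* T).comp (algebraMap (ResidueField R) (S ⧸ I))
  have hγ : ∀ r : R, γ (IsLocalRing.residue R r) = σ (φ r) := fun r => rfl
  have hγmem : ∀ a, γ a ∈ ιK.range := by
    intro a
    obtain ⟨r, rfl⟩ := IsLocalRing.residue_surjective a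
    obtain ⟨b, hb⟩ := hrange1 r
    exact ⟨b, hb.trans (hγ r).symm⟩
  let β : ResidueField R →+* Γ(Spec (Y.residueField y), ⊤) :=
    (eK.symm : ιK.range →+* Γ(Spec (Y.residueField y), ⊤)).comp (γ.codRestrict ιK.range hγmem)
  have hβ : ∀ a, ιK (β a) = γ a := by
    intro a
    have h1 := eK.apply_symm_apply (γ.codRestrict ιK.range hγmem a)
    exact congrArg Subtype.val h1
  have hβsurj : Function.Surjective β := by
    intro b
    obtain ⟨r, hr⟩ := hrange2 b
    refine ⟨IsLocalRing.residue R r, hιKinj ?_⟩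
    rw [hβ, hγ, hr]
  have h₂ : IsAdicFormallySmooth Γ(Spec (Y.residueField y), ⊤) T (maximalIdeal T) :=
    isAdicFormallySmooth_transport σbar β hβsurj (fun a => (hβ a).symm)
      (fun s hs => ringEquiv_mem_maximalIdeal σbar s hs) h₁
  let e₃ : Localization.AtPrime q ≃ₐ[Γ(Spec (Y.residueField y), ⊤)] T :=
    (IsLocalization.algEquiv q.primeCompl (Localization.AtPrime q) T).restrictScalars _
  have h₃ : IsAdicFormallySmooth Γ(Spec (Y.residueField y), ⊤) (Localization.AtPrime q)
      (maximalIdeal (Localization.AtPrime q)) :=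
    Groth.Agent.Helper8.AdicFS.of_algEquiv h₂ e₃
      (fun t ht => ringEquiv_mem_maximalIdeal e₃.symm.toRingEquiv t ht)
  have h₄ : Algebra.IsSmoothAt Γ(Spec (Y.residueField y), ⊤) q :=
    Groth.Agent.Helper8.AdicFS.isSmoothAt_of_isAdicFormallySmooth _ _ q h₃
  rw [Scheme.Hom.mem_smoothLocus, formallySmooth_stalkMap_iff ⊤ hU V hV' hVU hx'V]
  exact h₄

/-- a point of the smooth locus of a scheme over a field is a point of geometric reducedness -/
theorem isGeomReducedAt_of_mem_smoothLocus {k : Type u} [Field k] {Z : Scheme.{u}}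
    (g : Z ⟶ Spec (CommRingCat.of k)) (hg : LocallyOfFinitePresentation g) (z : Z)
    (hz : z ∈ g.smoothLocus) : FBase.IsGeomReducedAt g z := by
  intro K _ _ z' hz'
  have hpb : IsPullback (FBase.bcπ g K) (FBase.bcStr g K) g
      (Spec.map (CommRingCat.ofHom (algebraMap k K))) :=
    IsPullback.of_hasPullback g (Spec.map (CommRingCat.ofHom (algebraMap k K)))
  haveI : LocallyOfFinitePresentation (FBase.bcStr g K) :=
    MorphismProperty.of_isPullback (P := @LocallyOfFinitePresentation) hpb inferInstance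
  have h1 : z' ∈ (FBase.bcStr g K).smoothLocus :=
    Groth.Agent.Lib.Helper6.EtLoc.mem_smoothLocus_of_isPullback g _ (FBase.bcStr g K)
      (FBase.bcπ g K) hpb z' (by rw [hz']; exact hz)
  have h2 := (Groth.Agent.S4989.result (FBase.bcStr g K) z' h1).1
  have h3 : _root_.IsReduced ((Spec (CommRingCat.of K)).presheaf.stalk ((FBase.bcStr g K).base z')) :=
    inferInstance
  exact h2.mpr h3

/-- the dimension of the closure of a point of a fibre is a natural number -/
theorem exists_dim_closure_eq_nat [IsLocallyNoetherian Y] (f : X ⟶ Y) [LocallyOfFiniteType f]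
    (y : Y) (w : f.fiber y) :
    ∃ e : ℕ, topologicalKrullDim ↥(closure ({w} : Set ↥(f.fiber y))) = e := by
  refine ⟨tr (f.fiberToSpecResidueField y) w, ?_⟩
  rw [dim_closure_singleton (f.fiber y) w]
  have hall : ∀ w' : f.fiber y,
      (f.fiberToSpecResidueField y) w' = (f.fiberToSpecResidueField y) w := by
    intro w'
    rw [Scheme.Hom.fiberToSpecResidueField_apply, Scheme.Hom.fiberToSpecResidueField_apply]
  let ψ : ↥(f.fiber y) ≃o {w' : ↥(f.fiber y) // (f.fiberToSpecResidueField y) w' =
      (f.fiberToSpecResidueField y) w} :=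
    { toFun := fun w' => ⟨w', hall w'⟩
      invFun := fun w' => w'.1
      left_inv := fun _ => rfl
      right_inv := fun _ => rfl
      map_rel_iff' := Iff.rfl }
  have h4 := height_fib_eq' (f.fiberToSpecResidueField y) ((f.fiberToSpecResidueField y) w) w rfl
  have h5 : Order.height w = Order.height (ψ w) := (Order.height_orderIso ψ w).symm
  have h6 : ψ w = ⟨w, rfl⟩ := rfl
  rw [h5, h6, h4]
  rfl

theorem hopen_of_nhd (f : X ⟶ Y) (x : X) (W : X.Opens) (hxW : x ∈ W)
    (hW : ∀ x' ∈ W, f.base x' = f.base x → EGA43.IsUnivOpenAt f x') :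
    ∀ z : ↥(f.fiber (f.base x)), f.asFiber x ∈ closure {z} →
      (∀ z' : ↥(f.fiber (f.base x)), z ∈ closure {z'} → z' = z) →
      EGA43.IsUnivOpenAt f ((f.fiberι (f.base x)).base z) := by
  intro z hz _
  apply hW
  · have h1 : z ⤳ f.asFiber x := specializes_iff_mem_closure.mpr hz
    have h2 := h1.map (f.fiberι (f.base x)).continuous
    rw [f.fiberι_asFiber] at h2
    exact h2.mem_open W.2 hxW
  · exact fiberι_mem f _ z

/-- the fibre through `x` is smooth at `x` when `O_{X,x} / 𝔪_y O_{X,x}` is geometrically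
regular -/
theorem asFiber_mem_smoothLocus [IsLocallyNoetherian Y] (f : X ⟶ Y) [LocallyOfFiniteType f]
    (x : X) [LocallyOfFinitePresentation (f.fiberToSpecResidueField (f.base x))]
    (h : FibGeomReg (f.stalkMap x).hom) :
    f.asFiber x ∈ (f.fiberToSpecResidueField (f.base x)).smoothLocus := by
  apply mem_smoothLocus_fibre_of_fibGeomReg f (f.base x) (f.asFiber x)
  exact fibGeomReg_congr f _ _ (f.fiberι_asFiber x).symm h

/-- **S5028** -/
theorem main5028 (f : X ⟶ Y) [IsLocallyNoetherian Y] [LocallyOfFiniteType f] (x : X)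
    (hred : _root_.IsReduced (Y.presheaf.stalk (f.base x))) :
    (∃ U : X.Opens, x ∈ U ∧ Smooth (U.ι ≫ f)) ↔
      (∃ W : X.Opens, x ∈ W ∧ ∀ x' ∈ W, f.base x' = f.base x → EGA43.IsUnivOpenAt f x') ∧
        FibGeomReg (f.stalkMap x).hom := by
  haveI : IsLocallyNoetherian X := LocallyOfFiniteType.isLocallyNoetherian f
  haveI : LocallyOfFiniteType (f.fiberToSpecResidueField (f.base x)) :=
    MorphismProperty.pullback_snd _ _ inferInstance
  haveI : IsLocallyNoetherian (Spec (Y.residueField (f.base x))) := inferInstance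
  haveI hlfp : LocallyOfFinitePresentation (f.fiberToSpecResidueField (f.base x)) :=
    LocallyOfFinitePresentation.iff_locallyOfFiniteType.mpr inferInstance
  rw [Groth.Agent.Lead.CritFib.exists_smooth_nhd_iff]
  constructor
  · intro hx
    refine ⟨⟨f.smoothLocus, hx, fun x' hx' _ => ?_⟩, ?_⟩
    · have hs : Smooth (f.smoothLocus.ι ≫ f) :=
        Groth.Agent.Lib.Helper6.EtLoc.smooth_of_forall_mem_smoothLocus _ f fun v => v.2
      have h1 : EGA43.IsUnivOpenAt (f.smoothLocus.ι ≫ f) ⟨x', hx'⟩ :=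
        Groth.Agent.Lib.Helper4.UOp.isUnivOpenAt_of_universallyOpen _ _
      exact Groth.Agent.Lib.Helper4.UO.S4926_main f.smoothLocus.ι f ⟨x', hx'⟩ h1
    · exact (flat_and_fibGeomReg_of_formallySmooth (f.stalkMap x).hom hx).2
  · rintro ⟨⟨W, hxW, hW⟩, hgr⟩
    have hfibsm := asFiber_mem_smoothLocus f x hgr
    have hgred : FBase.IsGeomReducedAt (f.fiberToSpecResidueField (f.base x)) (f.asFiber x) :=
      isGeomReducedAt_of_mem_smoothLocus _ hlfp _ hfibsm
    have hflat : (f.stalkMap x).hom.Flat :=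
      Groth.Agent.Lib.Helper4.ValFlat11.S2561_main f x (hopen_of_nhd f x W hxW hW) hgred hred
    exact (Groth.Agent.S2156.result f x).mpr ⟨hflat, hfibsm⟩

/-- **S5013** -/
theorem main5013 (f : X ⟶ Y) [IsLocallyNoetherian Y] [LocallyOfFiniteType f] (x : X)
    (hred : _root_.IsReduced (Y.presheaf.stalk (f.base x)))
    (hgu : CAlg2.IsGeomUnibranch (Y.presheaf.stalk (f.base x))) :
    (∃ U : X.Opens, x ∈ U ∧ Smooth (U.ι ≫ f)) ↔
      EGA43.IsEquidimAt f x ∧ FibGeomReg (f.stalkMap x).hom := by
  haveI : IsLocallyNoetherian X := LocallyOfFiniteType.isLocallyNoetherian f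
  haveI : LocallyOfFiniteType (f.fiberToSpecResidueField (f.base x)) :=
    MorphismProperty.pullback_snd _ _ inferInstance
  haveI : IsLocallyNoetherian (Spec (Y.residueField (f.base x))) := inferInstance
  haveI hlfp : LocallyOfFinitePresentation (f.fiberToSpecResidueField (f.base x)) :=
    LocallyOfFinitePresentation.iff_locallyOfFiniteType.mpr inferInstance
  rw [main5028 f x hred]
  constructor
  · rintro ⟨⟨W, hxW, hW⟩, hgr⟩
    refine ⟨?_, hgr⟩
    have hfibsm := asFiber_mem_smoothLocus f x hgr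
    have hgred : FBase.IsGeomReducedAt (f.fiberToSpecResidueField (f.base x)) (f.asFiber x) :=
      isGeomReducedAt_of_mem_smoothLocus _ hlfp _ hfibsm
    apply Groth.Agent.Lib.Helper4.ValFlat16.S3409_main f x (hopen_of_nhd f x W hxW hW) hgred
    have hKfield : IsField (Y.residueField (f.base x)) := Field.toIsField _
    haveI hdomT : IsDomain ((f.fiber (f.base x)).presheaf.stalk (f.asFiber x)) := by
      have h := (Groth.Agent.S4989.result (f.fiberToSpecResidueField (f.base x)) (f.asFiber x)
        hfibsm).2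
      exact (h.mpr ⟨inferInstance,
        isIntegrallyClosed_stalk_of_isField (Y.residueField (f.base x)) hKfield _⟩).1
    obtain ⟨η, hη⟩ := exists_generic_generization (f.fiber (f.base x)) (f.asFiber x)
    obtain ⟨e, he⟩ := exists_dim_closure_eq_nat f (f.base x) η
    refine ⟨e, fun Z hZ hxZ => ?_⟩
    rw [eq_closure_of_mem (f.fiber (f.base x)) (f.asFiber x) η hη Z hZ hxZ]
    exact he
  · rintro ⟨heq, hgr⟩
    refine ⟨?_, hgr⟩
    obtain ⟨e, U, hxU, H1, H2⟩ := heq
    refine ⟨U, hxU, fun x' hx'U hfx' => ?_⟩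
    apply Groth.Agent.Lib.Helper4.ChevCrit8.isUnivOpenAt_of_isEquidimAt f x'
    · exact Groth.Agent.Helper7.EquiTFAE.isGeomUnibranch_congr _ _ hfx'.symm hgu
    · refine ⟨e, U, hx'U, ?_, H2⟩
      intro Z hZ
      obtain ⟨W, hW, hxW, hcl⟩ := H1 Z hZ
      refine ⟨W, hW, ?_, hcl⟩
      rw [hfx']
      exact hxW

end Groth.Agent.Helper7.SmFib
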